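import Cfsg.Agent.Lib.Comp.CPres
set_option autoImplicit false
set_option linter.all false
set_option maxRecDepth 100000
universe u
namespace CA.A7TC
open CA.CNet CA.CWord CA.CLevel CA.CSimple CA.CPoint CA.CTodd 
noncomputable section
def rels : List Word := [[0,0,0], [2,2,2], [0,2,1,3], [4,4], [6,6], [4,0,4,1], [6,2,6,3], [2,4,2,4,2,4], [0,6,0,6,0,6], [4,6,4,6,4,6,4,6,4,6,4,6], [4,6,4,6,4,6,0,4,6,4,6,4,6,0], [4,6,4,6,4,6,2,4,6,4,6,4,6,2]]
namespace T0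
noncomputable def A_0 : List (ℕ) := [nat_lit 0x1f88fc8083f20090078c422109087a64220a8f47a23d2098f4822411e28f87063e1aa0f86c23e1d20f06263c1d90f066c3b17a0ec6063b1990ec6cc391b10e46883919a8d86e6361318cc746311820bc6862d1a98e06e82919189852c341bb0b44cc301930bc44c2111988c3ca200ea87c20a1110011c3e0480881182605511188824059109884120580a18504405610816828057110140420510a013c4622306286430a1c0ba83c3204c0e01341e04e0601283004b0b812446a232ca968a285a242164aea580a195caaa562821588e85524194c9e45111214048a301888c04c23113a8d06a2341488d42ea4e1628e06e2381688dc5ca3a1908e85e2320e292c9224a0ea92024a211108842822213b0803c8200998803e42012209c2e6270b109c26c1712185c302170f184c122131230783a41e0a90904ac2c1508b03442c0e20b0308251418945cc280b08a038c181720701e41c1588b83ec2b0d88ac3262b09187c3a81f1530742041d0ca0a81e2190530542c6150618581ac1a0d98681e61b03b0402261004984414a0b05202c0a60b04102c0e40a0688281ca0d0320341c60d0408381060702182004a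05030814082060188080220301980c0480200980400a000018000020022a90c88a4221a1007ec352030e0846411eb0c482c3a1f08e4784331da8e47282d1b18a46663211b050b48212ca14cb06462b993cac8222aa150a8847298948a4846289884a044f2798506022618a8944ca151a08a46aa2814a8589c24c26a86098a0c1c08b46ea2a16a8687422f1928ac5ea1b25892494a1924a83c9024623a8788ca1010885044a130a2824404111390a02e20c0988483c4101210945882e129054508180c10303841917086c5662a0f88443a61215106832c120908242a60c0b302c18c050d183c36c0e07b0182060908b02012c040590381460506901c1c80604281c0e6040288100ca0302280406c0201080402c00,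
  nat_lit 0x22b1148a64522891488c44221910882441f310c864431fa10c80a3f]
noncomputable def A : List (List (ℕ)) := [A_0]
noncomputable def K_0 : List (ℕ) := [nat_lit 0x52a9348a3d1a8b44a1d0a83409fce26f3697cba5b2c95caab358abd52a555ab546a750a7cca9d359a536753ba64c67b3e9846e67208d45e731e92cf23f21a5ca253268cc8a311c884462d1d9244e292791c561b0e87c22131285c2a1907834120b03814060000]
noncomputable def K : List (List (ℕ)) := [K_0]
noncomputable def R_0 : List (Rule) := [Rule.mk (nat_lit 3) (nat_lit 37) (Steps.bwd (nat_lit 6) (Steps.fwd (nat_lit 1536) (Steps.fwd (nat_lit 3072) Steps.nil))) (nat_lit 12) (nat_lit 2),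
  Rule.mk (nat_lit 4) (nat_lit 37) (Steps.bwd (nat_lit 1) (Steps.bwd (nat_lit 3) (Steps.fwd (nat_lit 512) Steps.nil))) (nat_lit 4) (nat_lit 0),
  Rule.mk (nat_lit 3) (nat_lit 37) (Steps.bwd (nat_lit 6) (Steps.bwd (nat_lit 4) (Steps.fwd (nat_lit 3072) Steps.nil))) (nat_lit 12) (nat_lit 2),
  Rule.mk (nat_lit 1) (nat_lit 57) (Steps.bwd (nat_lit 6) (Steps.bwd (nat_lit 1) (Steps.bwd (nat_lit 6) (Steps.bwd (nat_lit 1) (Steps.fwd (nat_lit 3072) Steps.nil))))) (nat_lit 16) (nat_lit 1),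
  Rule.mk (nat_lit 1) (nat_lit 27) (Steps.bwd (nat_lit 1) (Steps.bwd (nat_lit 1) Steps.nil)) (nat_lit 0) (nat_lit 0),
  Rule.mk (nat_lit 1) (nat_lit 37) (Steps.bwd (nat_lit 5) (Steps.fwd (nat_lit 512) (Steps.fwd (nat_lit 2560) Steps.nil))) (nat_lit 10) (nat_lit 2),
  Rule.mk (nat_lit 5) (nat_lit 37) (Steps.bwd (nat_lit 1) (Steps.bwd (nat_lit 5) (Steps.fwd (nat_lit 512) Steps.nil))) (nat_lit 10) (nat_lit 1),
  Rule.mk (nat_lit 3) (nat_lit 57) (Steps.bwd (nat_lit 5) (Steps.bwd (nat_lit 3) (Steps.bwd (nat_lit 5) (Steps.bwd (nat_lit 3) (Steps.fwd (nat_lit 2560) Steps.nil))))) (nat_lit 14) (nat_lit 1),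
  Rule.mk (nat_lit 3) (nat_lit 27) (Steps.bwd (nat_lit 3) (Steps.bwd (nat_lit 3) Steps.nil)) (nat_lit 2) (nat_lit 0),
  Rule.mk (nat_lit 1) (nat_lit 37) (Steps.bwd (nat_lit 4) (Steps.fwd (nat_lit 512) (Steps.bwd (nat_lit 3) Steps.nil))) (nat_lit 5) (nat_lit 2),
  Rule.mk (nat_lit 3) (nat_lit 37) (Steps.bwd (nat_lit 2) (Steps.fwd (nat_lit 1536) (Steps.bwd (nat_lit 1) Steps.nil))) (nat_lit 4) (nat_lit 2),
  Rule.mk (nat_lit 4) (nat_lit 37) (Steps.bwd (nat_lit 2) (Steps.bwd (nat_lit 3) (Steps.bwd (nat_lit 1) Steps.nil))) (nat_lit 5) (nat_lit 3),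
  Rule.mk (nat_lit 5) (nat_lit 37) (Steps.bwd (nat_lit 2) (Steps.fwd (nat_lit 2560) (Steps.bwd (nat_lit 1) Steps.nil))) (nat_lit 10) (nat_lit 3),
  Rule.mk (nat_lit 1) (nat_lit 37) (Steps.bwd (nat_lit 3) (Steps.fwd (nat_lit 512) (Steps.bwd (nat_lit 4) Steps.nil))) (nat_lit 4) (nat_lit 1),
  Rule.mk (nat_lit 2) (nat_lit 37) (Steps.bwd (nat_lit 3) (Steps.bwd (nat_lit 1) (Steps.fwd (nat_lit 1536) Steps.nil))) (nat_lit 5) (nat_lit 0),
  Rule.mk (nat_lit 2) (nat_lit 27) (Steps.bwd (nat_lit 2) (Steps.fwd (nat_lit 512) Steps.nil)) (nat_lit 1) (nat_lit 0),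
  Rule.mk (nat_lit 3) (nat_lit 37) (Steps.bwd (nat_lit 2) (Steps.bwd (nat_lit 4) (Steps.bwd (nat_lit 1) Steps.nil))) (nat_lit 4) (nat_lit 2),
  Rule.mk (nat_lit 5) (nat_lit 37) (Steps.bwd (nat_lit 2) (Steps.bwd (nat_lit 5) (Steps.bwd (nat_lit 1) Steps.nil))) (nat_lit 10) (nat_lit 3),
  Rule.mk (nat_lit 6) (nat_lit 37) (Steps.bwd (nat_lit 3) (Steps.bwd (nat_lit 6) (Steps.fwd (nat_lit 1536) Steps.nil))) (nat_lit 12) (nat_lit 1),
  Rule.mk (nat_lit 6) (nat_lit 37) (Steps.bwd (nat_lit 3) (Steps.bwd (nat_lit 6) (Steps.bwd (nat_lit 4) Steps.nil))) (nat_lit 12) (nat_lit 1),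
  Rule.mk (nat_lit 6) (nat_lit 37) (Steps.bwd (nat_lit 3) (Steps.fwd (nat_lit 3072) (Steps.bwd (nat_lit 4) Steps.nil))) (nat_lit 12) (nat_lit 1),
  Rule.mk (nat_lit 4) (nat_lit 37) (Steps.bwd (nat_lit 1) (Steps.bwd (nat_lit 3) (Steps.bwd (nat_lit 2) Steps.nil))) (nat_lit 4) (nat_lit 0),
  Rule.mk (nat_lit 3) (nat_lit 37) (Steps.bwd (nat_lit 1) (Steps.fwd (nat_lit 1536) (Steps.fwd (nat_lit 512) Steps.nil))) (nat_lit 5) (nat_lit 1),
  Rule.mk (nat_lit 3) (nat_lit 27) (Steps.bwd (nat_lit 3) (Steps.fwd (nat_lit 2048) Steps.nil)) (nat_lit 2) (nat_lit 0),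
  Rule.mk (nat_lit 1) (nat_lit 37) (Steps.bwd (nat_lit 3) (Steps.bwd (nat_lit 2) (Steps.fwd (nat_lit 1536) Steps.nil))) (nat_lit 4) (nat_lit 1),
  Rule.mk (nat_lit 6) (nat_lit 57) (Steps.bwd (nat_lit 2) (Steps.bwd (nat_lit 6) (Steps.fwd (nat_lit 512) (Steps.fwd (nat_lit 3072) (Steps.bwd (nat_lit 2) Steps.nil))))) (nat_lit 17) (nat_lit 1),
  Rule.mk (nat_lit 1) (nat_lit 37) (Steps.bwd (nat_lit 4) (Steps.bwd (nat_lit 2) (Steps.bwd (nat_lit 3) Steps.nil))) (nat_lit 5) (nat_lit 2),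
  Rule.mk (nat_lit 6) (nat_lit 37) (Steps.bwd (nat_lit 4) (Steps.fwd (nat_lit 3072) (Steps.fwd (nat_lit 2048) Steps.nil))) (nat_lit 12) (nat_lit 3),
  Rule.mk (nat_lit 4) (nat_lit 37) (Steps.bwd (nat_lit 2) (Steps.bwd (nat_lit 3) (Steps.fwd (nat_lit 1024) Steps.nil))) (nat_lit 5) (nat_lit 3),
  Rule.mk (nat_lit 4) (nat_lit 27) (Steps.bwd (nat_lit 4) (Steps.bwd (nat_lit 4) Steps.nil)) (nat_lit 3) (nat_lit 0),
  Rule.mk (nat_lit 2) (nat_lit 37) (Steps.bwd (nat_lit 4) (Steps.bwd (nat_lit 1) (Steps.bwd (nat_lit 3) Steps.nil))) (nat_lit 4) (nat_lit 3),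
  Rule.mk (nat_lit 6) (nat_lit 37) (Steps.bwd (nat_lit 4) (Steps.bwd (nat_lit 6) (Steps.bwd (nat_lit 3) Steps.nil))) (nat_lit 12) (nat_lit 3),
  Rule.mk (nat_lit 2) (nat_lit 27) (Steps.bwd (nat_lit 2) (Steps.bwd (nat_lit 2) Steps.nil)) (nat_lit 1) (nat_lit 0),
  Rule.mk (nat_lit 6) (nat_lit 57) (Steps.bwd (nat_lit 2) (Steps.fwd (nat_lit 3072) (Steps.bwd (nat_lit 2) (Steps.bwd (nat_lit 6) (Steps.bwd (nat_lit 2) Steps.nil))))) (nat_lit 17) (nat_lit 1),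
  Rule.mk (nat_lit 3) (nat_lit 37) (Steps.bwd (nat_lit 1) (Steps.fwd (nat_lit 1536) (Steps.bwd (nat_lit 2) Steps.nil))) (nat_lit 5) (nat_lit 1),
  Rule.mk (nat_lit 1) (nat_lit 27) (Steps.bwd (nat_lit 1) (Steps.fwd (nat_lit 1024) Steps.nil)) (nat_lit 0) (nat_lit 0),
  Rule.mk (nat_lit 6) (nat_lit 57) (Steps.bwd (nat_lit 1) (Steps.bwd (nat_lit 6) (Steps.bwd (nat_lit 1) (Steps.fwd (nat_lit 3072) (Steps.bwd (nat_lit 1) Steps.nil))))) (nat_lit 16) (nat_lit 0),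
  Rule.mk (nat_lit 6) (nat_lit 57) (Steps.bwd (nat_lit 2) (Steps.bwd (nat_lit 6) (Steps.bwd (nat_lit 2) (Steps.fwd (nat_lit 3072) (Steps.bwd (nat_lit 2) Steps.nil))))) (nat_lit 17) (nat_lit 1),
  Rule.mk (nat_lit 5) (nat_lit 37) (Steps.bwd (nat_lit 1) (Steps.bwd (nat_lit 5) (Steps.bwd (nat_lit 2) Steps.nil))) (nat_lit 10) (nat_lit 1),
  Rule.mk (nat_lit 1) (nat_lit 37) (Steps.bwd (nat_lit 5) (Steps.bwd (nat_lit 2) (Steps.fwd (nat_lit 2560) Steps.nil))) (nat_lit 10) (nat_lit 2),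
  Rule.mk (nat_lit 3) (nat_lit 37) (Steps.bwd (nat_lit 1) (Steps.bwd (nat_lit 4) (Steps.fwd (nat_lit 512) Steps.nil))) (nat_lit 5) (nat_lit 1),
  Rule.mk (nat_lit 5) (nat_lit 57) (Steps.bwd (nat_lit 4) (Steps.bwd (nat_lit 5) (Steps.fwd (nat_lit 1536) (Steps.fwd (nat_lit 2560) (Steps.bwd (nat_lit 4) Steps.nil))))) (nat_lit 15) (nat_lit 1),
  Rule.mk (nat_lit 5) (nat_lit 57) (Steps.bwd (nat_lit 3) (Steps.bwd (nat_lit 5) (Steps.bwd (nat_lit 3) (Steps.fwd (nat_lit 2560) (Steps.bwd (nat_lit 3) Steps.nil))))) (nat_lit 14) (nat_lit 0),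
  Rule.mk (nat_lit 4) (nat_lit 27) (Steps.bwd (nat_lit 4) (Steps.fwd (nat_lit 1536) Steps.nil)) (nat_lit 3) (nat_lit 0),
  Rule.mk (nat_lit 5) (nat_lit 57) (Steps.bwd (nat_lit 4) (Steps.fwd (nat_lit 2560) (Steps.fwd (nat_lit 1536) (Steps.bwd (nat_lit 5) (Steps.bwd (nat_lit 4) Steps.nil))))) (nat_lit 15) (nat_lit 1),
  Rule.mk (nat_lit 5) (nat_lit 117) (Steps.bwd (nat_lit 6) (Steps.bwd (nat_lit 5) (Steps.bwd (nat_lit 6) (Steps.bwd (nat_lit 5) (Steps.bwd (nat_lit 6) (Steps.fwd (nat_lit 2560) (Steps.fwd (nat_lit 3072) (Steps.fwd (nat_lit 2560) (Steps.fwd (nat_lit 3072) (Steps.fwd (nat_lit 2560) (Steps.fwd (nat_lit 3072) Steps.nil))))))))))) (nat_lit 18) (nat_lit 1),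
  Rule.mk (nat_lit 0) (nat_lit 147) (Steps.bwd (nat_lit 5) (Steps.bwd (nat_lit 6) (Steps.bwd (nat_lit 5) (Steps.bwd (nat_lit 6) (Steps.bwd (nat_lit 1) (Steps.fwd (nat_lit 2560) (Steps.fwd (nat_lit 3072) (Steps.fwd (nat_lit 2560) (Steps.fwd (nat_lit 3072) (Steps.fwd (nat_lit 2560) (Steps.bwd (nat_lit 6) (Steps.bwd (nat_lit 1) (Steps.bwd (nat_lit 5) (Steps.bwd (nat_lit 6) Steps.nil)))))))))))))) (nat_lit 20) (nat_lit 2),
  Rule.mk (nat_lit 0) (nat_lit 37) (Steps.bwd (nat_lit 1) (Steps.fwd (nat_lit 0) (Steps.fwd (nat_lit 512) Steps.nil))) (nat_lit 24) (nat_lit 0),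
  Rule.mk (nat_lit 0) (nat_lit 37) (Steps.fwd (nat_lit 512) (Steps.fwd (nat_lit 0) (Steps.bwd (nat_lit 1) Steps.nil))) (nat_lit 24) (nat_lit 0),
  Rule.mk (nat_lit 0) (nat_lit 37) (Steps.fwd (nat_lit 2560) (Steps.bwd (nat_lit 0) (Steps.bwd (nat_lit 5) Steps.nil))) (nat_lit 24) (nat_lit 0),
  Rule.mk (nat_lit 0) (nat_lit 37) (Steps.bwd (nat_lit 5) (Steps.bwd (nat_lit 0) (Steps.fwd (nat_lit 2560) Steps.nil))) (nat_lit 24) (nat_lit 0),
  Rule.mk (nat_lit 0) (nat_lit 37) (Steps.bwd (nat_lit 5) (Steps.bwd (nat_lit 0) (Steps.bwd (nat_lit 5) Steps.nil))) (nat_lit 24) (nat_lit 0),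
  Rule.mk (nat_lit 5) (nat_lit 27) (Steps.bwd (nat_lit 0) (Steps.fwd (nat_lit 2560) Steps.nil)) (nat_lit 24) (nat_lit 0),
  Rule.mk (nat_lit 5) (nat_lit 27) (Steps.bwd (nat_lit 0) (Steps.bwd (nat_lit 5) Steps.nil)) (nat_lit 24) (nat_lit 0),
  Rule.mk (nat_lit 1) (nat_lit 137) (Steps.fwd (nat_lit 2560) (Steps.bwd (nat_lit 6) (Steps.bwd (nat_lit 5) (Steps.bwd (nat_lit 6) (Steps.bwd (nat_lit 5) (Steps.bwd (nat_lit 6) (Steps.bwd (nat_lit 1) (Steps.fwd (nat_lit 2560) (Steps.fwd (nat_lit 3072) (Steps.fwd (nat_lit 2560) (Steps.fwd (nat_lit 3072) (Steps.fwd (nat_lit 2560) (Steps.fwd (nat_lit 3072) Steps.nil))))))))))))) (nat_lit 20) (nat_lit 0),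
  Rule.mk (nat_lit 0) (nat_lit 147) (Steps.bwd (nat_lit 3) (Steps.bwd (nat_lit 5) (Steps.bwd (nat_lit 6) (Steps.bwd (nat_lit 5) (Steps.bwd (nat_lit 6) (Steps.fwd (nat_lit 2560) (Steps.fwd (nat_lit 3072) (Steps.bwd (nat_lit 3) (Steps.fwd (nat_lit 2560) (Steps.fwd (nat_lit 3072) (Steps.fwd (nat_lit 2560) (Steps.fwd (nat_lit 3072) (Steps.fwd (nat_lit 2560) (Steps.bwd (nat_lit 6) Steps.nil)))))))))))))) (nat_lit 22) (nat_lit 6),
  Rule.mk (nat_lit 0) (nat_lit 37) (Steps.fwd (nat_lit 1024) (Steps.fwd (nat_lit 0) (Steps.fwd (nat_lit 512) Steps.nil))) (nat_lit 24) (nat_lit 0),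
  Rule.mk (nat_lit 0) (nat_lit 37) (Steps.bwd (nat_lit 2) (Steps.fwd (nat_lit 0) (Steps.bwd (nat_lit 1) Steps.nil))) (nat_lit 24) (nat_lit 0),
  Rule.mk (nat_lit 0) (nat_lit 47) (Steps.bwd (nat_lit 3) (Steps.fwd (nat_lit 0) (Steps.fwd (nat_lit 1536) (Steps.fwd (nat_lit 0) Steps.nil)))) (nat_lit 24) (nat_lit 0),
  Rule.mk (nat_lit 0) (nat_lit 47) (Steps.fwd (nat_lit 2048) (Steps.fwd (nat_lit 0) (Steps.fwd (nat_lit 1536) (Steps.fwd (nat_lit 0) Steps.nil)))) (nat_lit 24) (nat_lit 0),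
  Rule.mk (nat_lit 0) (nat_lit 47) (Steps.fwd (nat_lit 2048) (Steps.fwd (nat_lit 0) (Steps.bwd (nat_lit 4) (Steps.fwd (nat_lit 0) Steps.nil)))) (nat_lit 24) (nat_lit 0),
  Rule.mk (nat_lit 3) (nat_lit 27) (Steps.bwd (nat_lit 0) (Steps.fwd (nat_lit 1536) Steps.nil)) (nat_lit 24) (nat_lit 0),
  Rule.mk (nat_lit 0) (nat_lit 37) (Steps.fwd (nat_lit 2560) (Steps.fwd (nat_lit 0) (Steps.bwd (nat_lit 5) Steps.nil))) (nat_lit 24) (nat_lit 0),
  Rule.mk (nat_lit 3) (nat_lit 27) (Steps.bwd (nat_lit 0) (Steps.bwd (nat_lit 4) Steps.nil)) (nat_lit 24) (nat_lit 0)]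
noncomputable def R_1 : List (Rule) := [Rule.mk (nat_lit 0) (nat_lit 37) (Steps.bwd (nat_lit 5) (Steps.fwd (nat_lit 0) (Steps.fwd (nat_lit 2560) Steps.nil))) (nat_lit 24) (nat_lit 0),
  Rule.mk (nat_lit 0) (nat_lit 37) (Steps.bwd (nat_lit 5) (Steps.fwd (nat_lit 0) (Steps.bwd (nat_lit 5) Steps.nil))) (nat_lit 24) (nat_lit 0),
  Rule.mk (nat_lit 0) (nat_lit 37) (Steps.fwd (nat_lit 1536) (Steps.fwd (nat_lit 0) (Steps.bwd (nat_lit 3) Steps.nil))) (nat_lit 24) (nat_lit 0),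
  Rule.mk (nat_lit 0) (nat_lit 37) (Steps.bwd (nat_lit 4) (Steps.fwd (nat_lit 0) (Steps.bwd (nat_lit 3) Steps.nil))) (nat_lit 24) (nat_lit 0),
  Rule.mk (nat_lit 3) (nat_lit 137) (Steps.fwd (nat_lit 2560) (Steps.bwd (nat_lit 6) (Steps.bwd (nat_lit 5) (Steps.bwd (nat_lit 6) (Steps.bwd (nat_lit 5) (Steps.bwd (nat_lit 6) (Steps.bwd (nat_lit 3) (Steps.fwd (nat_lit 2560) (Steps.fwd (nat_lit 3072) (Steps.fwd (nat_lit 2560) (Steps.fwd (nat_lit 3072) (Steps.fwd (nat_lit 2560) (Steps.fwd (nat_lit 3072) Steps.nil))))))))))))) (nat_lit 22) (nat_lit 0),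
  Rule.mk (nat_lit 6) (nat_lit 57) (Steps.bwd (nat_lit 1) (Steps.fwd (nat_lit 3072) (Steps.bwd (nat_lit 1) (Steps.bwd (nat_lit 6) (Steps.bwd (nat_lit 1) Steps.nil))))) (nat_lit 16) (nat_lit 0),
  Rule.mk (nat_lit 6) (nat_lit 137) (Steps.bwd (nat_lit 5) (Steps.bwd (nat_lit 6) (Steps.bwd (nat_lit 5) (Steps.bwd (nat_lit 6) (Steps.bwd (nat_lit 3) (Steps.fwd (nat_lit 2560) (Steps.fwd (nat_lit 3072) (Steps.fwd (nat_lit 2560) (Steps.bwd (nat_lit 6) (Steps.fwd (nat_lit 2560) (Steps.fwd (nat_lit 3072) (Steps.bwd (nat_lit 3) (Steps.fwd (nat_lit 2560) Steps.nil))))))))))))) (nat_lit 22) (nat_lit 2),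
  Rule.mk (nat_lit 6) (nat_lit 137) (Steps.fwd (nat_lit 2560) (Steps.bwd (nat_lit 6) (Steps.bwd (nat_lit 3) (Steps.fwd (nat_lit 2560) (Steps.bwd (nat_lit 6) (Steps.fwd (nat_lit 2560) (Steps.fwd (nat_lit 3072) (Steps.fwd (nat_lit 2560) (Steps.bwd (nat_lit 6) (Steps.bwd (nat_lit 3) (Steps.fwd (nat_lit 2560) (Steps.bwd (nat_lit 6) (Steps.fwd (nat_lit 2560) Steps.nil))))))))))))) (nat_lit 22) (nat_lit 4),
  Rule.mk (nat_lit 6) (nat_lit 137) (Steps.bwd (nat_lit 5) (Steps.fwd (nat_lit 3072) (Steps.fwd (nat_lit 2560) (Steps.bwd (nat_lit 4) (Steps.fwd (nat_lit 3072) (Steps.fwd (nat_lit 2560) (Steps.fwd (nat_lit 3072) (Steps.fwd (nat_lit 2560) (Steps.bwd (nat_lit 6) (Steps.fwd (nat_lit 2560) (Steps.fwd (nat_lit 1536) (Steps.fwd (nat_lit 3072) (Steps.fwd (nat_lit 2560) Steps.nil))))))))))))) (nat_lit 23) (nat_lit 4),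
  Rule.mk (nat_lit 6) (nat_lit 137) (Steps.fwd (nat_lit 2560) (Steps.fwd (nat_lit 1536) (Steps.fwd (nat_lit 3072) (Steps.fwd (nat_lit 2560) (Steps.bwd (nat_lit 6) (Steps.fwd (nat_lit 2560) (Steps.fwd (nat_lit 3072) (Steps.fwd (nat_lit 2560) (Steps.fwd (nat_lit 1536) (Steps.fwd (nat_lit 3072) (Steps.bwd (nat_lit 5) (Steps.fwd (nat_lit 3072) (Steps.fwd (nat_lit 2560) Steps.nil))))))))))))) (nat_lit 23) (nat_lit 6),
  Rule.mk (nat_lit 4) (nat_lit 57) (Steps.bwd (nat_lit 5) (Steps.fwd (nat_lit 1536) (Steps.bwd (nat_lit 5) (Steps.bwd (nat_lit 4) (Steps.fwd (nat_lit 2560) Steps.nil))))) (nat_lit 15) (nat_lit 0),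
  Rule.mk (nat_lit 3) (nat_lit 37) (Steps.fwd (nat_lit 512) (Steps.bwd (nat_lit 4) (Steps.bwd (nat_lit 1) Steps.nil))) (nat_lit 4) (nat_lit 2),
  Rule.mk (nat_lit 4) (nat_lit 137) (Steps.fwd (nat_lit 3072) (Steps.bwd (nat_lit 5) (Steps.fwd (nat_lit 3072) (Steps.fwd (nat_lit 2560) (Steps.fwd (nat_lit 3072) (Steps.fwd (nat_lit 2560) (Steps.bwd (nat_lit 4) (Steps.bwd (nat_lit 6) (Steps.fwd (nat_lit 2560) (Steps.bwd (nat_lit 6) (Steps.fwd (nat_lit 2560) (Steps.fwd (nat_lit 3072) (Steps.bwd (nat_lit 5) Steps.nil))))))))))))) (nat_lit 23) (nat_lit 1),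
  Rule.mk (nat_lit 6) (nat_lit 37) (Steps.bwd (nat_lit 4) (Steps.fwd (nat_lit 3072) (Steps.bwd (nat_lit 3) Steps.nil))) (nat_lit 12) (nat_lit 3),
  Rule.mk (nat_lit 2) (nat_lit 37) (Steps.bwd (nat_lit 5) (Steps.fwd (nat_lit 1024) (Steps.fwd (nat_lit 2560) Steps.nil))) (nat_lit 10) (nat_lit 0),
  Rule.mk (nat_lit 3) (nat_lit 57) (Steps.bwd (nat_lit 5) (Steps.fwd (nat_lit 2048) (Steps.fwd (nat_lit 2560) (Steps.fwd (nat_lit 2048) (Steps.bwd (nat_lit 5) Steps.nil))))) (nat_lit 14) (nat_lit 1),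
  Rule.mk (nat_lit 4) (nat_lit 57) (Steps.bwd (nat_lit 5) (Steps.bwd (nat_lit 4) (Steps.bwd (nat_lit 5) (Steps.fwd (nat_lit 1536) (Steps.fwd (nat_lit 2560) Steps.nil))))) (nat_lit 15) (nat_lit 0),
  Rule.mk (nat_lit 6) (nat_lit 137) (Steps.bwd (nat_lit 5) (Steps.fwd (nat_lit 3072) (Steps.bwd (nat_lit 3) (Steps.bwd (nat_lit 5) (Steps.bwd (nat_lit 6) (Steps.fwd (nat_lit 2560) (Steps.bwd (nat_lit 6) (Steps.fwd (nat_lit 2560) (Steps.bwd (nat_lit 6) (Steps.bwd (nat_lit 3) (Steps.bwd (nat_lit 5) (Steps.fwd (nat_lit 3072) (Steps.fwd (nat_lit 2560) Steps.nil))))))))))))) (nat_lit 22) (nat_lit 4),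
  Rule.mk (nat_lit 4) (nat_lit 37) (Steps.bwd (nat_lit 1) (Steps.fwd (nat_lit 2048) (Steps.fwd (nat_lit 512) Steps.nil))) (nat_lit 4) (nat_lit 0),
  Rule.mk (nat_lit 5) (nat_lit 37) (Steps.bwd (nat_lit 1) (Steps.fwd (nat_lit 2560) (Steps.bwd (nat_lit 2) Steps.nil))) (nat_lit 10) (nat_lit 1),
  Rule.mk (nat_lit 1) (nat_lit 57) (Steps.bwd (nat_lit 6) (Steps.bwd (nat_lit 1) (Steps.fwd (nat_lit 3072) (Steps.bwd (nat_lit 1) (Steps.fwd (nat_lit 3072) Steps.nil))))) (nat_lit 16) (nat_lit 1),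
  Rule.mk (nat_lit 5) (nat_lit 137) (Steps.bwd (nat_lit 6) (Steps.bwd (nat_lit 1) (Steps.fwd (nat_lit 2560) (Steps.bwd (nat_lit 6) (Steps.bwd (nat_lit 5) (Steps.fwd (nat_lit 3072) (Steps.bwd (nat_lit 5) (Steps.fwd (nat_lit 3072) (Steps.bwd (nat_lit 1) (Steps.bwd (nat_lit 5) (Steps.fwd (nat_lit 3072) (Steps.bwd (nat_lit 5) (Steps.fwd (nat_lit 3072) Steps.nil))))))))))))) (nat_lit 20) (nat_lit 5),
  Rule.mk (nat_lit 1) (nat_lit 37) (Steps.bwd (nat_lit 3) (Steps.fwd (nat_lit 512) (Steps.fwd (nat_lit 1536) Steps.nil))) (nat_lit 4) (nat_lit 1),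
  Rule.mk (nat_lit 4) (nat_lit 37) (Steps.bwd (nat_lit 6) (Steps.bwd (nat_lit 3) (Steps.fwd (nat_lit 3072) Steps.nil))) (nat_lit 12) (nat_lit 0),
  Rule.mk (nat_lit 5) (nat_lit 117) (Steps.bwd (nat_lit 6) (Steps.bwd (nat_lit 5) (Steps.fwd (nat_lit 3072) (Steps.bwd (nat_lit 5) (Steps.fwd (nat_lit 3072) (Steps.bwd (nat_lit 5) (Steps.bwd (nat_lit 6) (Steps.bwd (nat_lit 5) (Steps.bwd (nat_lit 6) (Steps.bwd (nat_lit 5) (Steps.fwd (nat_lit 3072) Steps.nil))))))))))) (nat_lit 18) (nat_lit 1),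
  Rule.mk (nat_lit 2) (nat_lit 37) (Steps.bwd (nat_lit 4) (Steps.bwd (nat_lit 1) (Steps.fwd (nat_lit 2048) Steps.nil))) (nat_lit 4) (nat_lit 3),
  Rule.mk (nat_lit 6) (nat_lit 137) (Steps.bwd (nat_lit 5) (Steps.fwd (nat_lit 3072) (Steps.fwd (nat_lit 1024) (Steps.bwd (nat_lit 5) (Steps.fwd (nat_lit 3072) (Steps.fwd (nat_lit 2560) (Steps.bwd (nat_lit 6) (Steps.bwd (nat_lit 5) (Steps.fwd (nat_lit 3072) (Steps.bwd (nat_lit 1) (Steps.fwd (nat_lit 2560) (Steps.bwd (nat_lit 6) (Steps.fwd (nat_lit 2560) Steps.nil))))))))))))) (nat_lit 20) (nat_lit 4),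
  Rule.mk (nat_lit 3) (nat_lit 57) (Steps.bwd (nat_lit 5) (Steps.fwd (nat_lit 2048) (Steps.fwd (nat_lit 2560) (Steps.fwd (nat_lit 2048) (Steps.fwd (nat_lit 2560) Steps.nil))))) (nat_lit 14) (nat_lit 1),
  Rule.mk (nat_lit 6) (nat_lit 117) (Steps.bwd (nat_lit 5) (Steps.fwd (nat_lit 3072) (Steps.fwd (nat_lit 2560) (Steps.bwd (nat_lit 6) (Steps.fwd (nat_lit 2560) (Steps.fwd (nat_lit 3072) (Steps.bwd (nat_lit 5) (Steps.fwd (nat_lit 3072) (Steps.bwd (nat_lit 5) (Steps.bwd (nat_lit 6) (Steps.fwd (nat_lit 2560) Steps.nil))))))))))) (nat_lit 18) (nat_lit 0)]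
noncomputable def R : List (List (Rule)) := [R_0, R_1]
def LW : List Word := [[], [0], [1], [2], [3], [4], [6], [0], [1], [2], [3], [4], [5]]
def par : Par := ⟨9, 4, 13, 22, 511, 8191, 4194303⟩
theorem hpar : par.ok := by decide
theorem hR0_0 : lall (R) (fun l => lall l (ruleOK rels LW par)) = true := by decide +kernel
theorem hR0 : lall (R) (fun l => lall l (ruleOK rels LW par)) = true := hR0_0
theorem hR : RulesOK rels LW par R := rulesOK_of rfl hR0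
def cols : List (ℕ × ℕ) := [(512, 2), (1536, 4), (2560, 5), (3072, 6)]
theorem hcols : lall cols (colOK rels LW par) = true := by decide +kernel
noncomputable def JS0 : List ℕ := [nat_lit 0x6d198631e000d2318c1a8171b46418c20dc330c84c0018c48c8040c6040c1986428000c624641ac6306360cc32130006312320163181010051909006030c6300a1946222028c24065198611e0080e300e00862180680c310be30000045e16008082f0a0005f123080e308bc2e881886017838002e851780117430002f8517c0517c5e17420b8000b80c5c0005c042e0022e01,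
  nat_lit 0x1e4291d4e810148e82c801cc80ee078e674031e47222078e240032249020c714a0290038231d86f48010f437a31f06e0a0082e1203a372204c6d42378da84040146d4039012360a058701acf80a351e1b0751a8e802080d22c020046938078d2341b00476088731a0d002020d0300919c8002338500c0419ca016348cc6404194c0d2068ca5c0102c642c008cc3215,
  nat_lit 0x1c0942bcb82ec5f2ecb82bc941c170020c9440d0e0b4781bd600a37ac000902a48d1bd58ee37890048a0888d1bd5006371e1bc6e3c430e037a91c8881c07824388e030201cc714e000e0147123870500a8e638a7000700a388463806214731c438383a8e69c001c828e6478e4a08a1d4730e000e41473088720c0f0ea39a71d0271cc30483b0e89c8a1e0760e000ea147602c750c029121791e3b26,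
  nat_lit 0x27c621ac6d324163143b004b31204a0ae41522d1881d000590880b992320e0651551c3b23813238b08c46962661aa6c0f83e9b06a9985891a0e452b0026c1a804d4ab009b07201041105400c1a883080845432a40506e111402400bc04052090801c029803055f82a013e0081a008167a0111201020f00222802209d85400910e89e00015723d8143d93e5d1863498c3518c619744f90ee07a278b9308c51a46b314c22e49e1e8096e47004d88c009b030013524c0222da03a01112cc9200815644d0020e310a400239804c4a03c388003892a581725d9745c15a47af,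
  nat_lit 0x28a929ca14c0214d5c02294494c290e05f09a0d0962d840338902494b58a41241b120a4aa52024518128c50068c328ea80a5294750be294a2522301450d3020a04825948500c1040a27c58064f210180327801044b11d07d368b42800327a91783b9724f13b443b1483e00c9ca0018024dcf00c0c26e7004209347c052656002550dc56932ac05260c00a4c092c4000d14864288142286a02004570ca058c05880f34a60043a521a8001c4c2ac640686829a595a2f0326514420a43286d190c9060c70f4032d4471143094540be620780116823032669a8390cc54c9,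
  nat_lit 0x15e028260616001160060260295f74ae2c007018aeb85680856a82b4090401306cb605c1e06cb6058092b6d958050165815820ab020ab0c0715a55a02a8042aad004549e2a8561c4c22b0062b4591dcc52a6c950298402915154a8070a7b0538a80f98e53d5]
theorem S0_c : blocks (facts 9 4 13 22 511 8191 4194303 10 1023 7 127 A R 32) 32 JS0 348 = true := by decide +kernel
theorem S0 : On (Step.{u} rels LW par A) 348 540 :=
  steps_of_blocks hpar hR S0_c (by decide +kernel)
theorem D0_c : allB (defOK 9 13 22 511 4194303 346 A K) 1 2 = true := by decide +kernel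
theorem D0 : On (fun r => defOK par.W par.WL par.E par.mW par.mE 346 A K r = true) 256 384 :=
  On.of_allB D0_c
noncomputable def JW0 : List ℕ := [nat_lit 0x26a2289d10522c224809f527c22c9e91925a2c091a01432760a8202298748a712141a2b8a19442582c4929ff2182cc87110426718a510b28c700a411b3447ac4f1e621a7a0891144183e5041f243e230ab2062a4234aa1414362c90b1314305951496a29a590b422742a2bd081f0424560ae22328e564ad9624427a90e20e43c8acb715f2a68a8b61614348c4b39744285c1121724408cd1622e46a8c0bd1784685c4be9764728c8bf236470600c1184,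
  nat_lit 0x31a0e01b83a066138280543261182504808213c2c1990b866c3005b3283b02b8ee0c8668ce99631c3983b0e80fe7443c8ea0ca1a836067318714298e20f8378348e00ba1ac3706310675cd00f03246fc380dc100360398da1047642f9d42523b4979320fc74c3a1ce23839cfc91e2687589c13627e7410220b0fa71ccf1c2250710fe92a1fe37c841ef1027043d1bc23a6f8931fb22e364839f7346300430ac10a7a44b0fc1083e04d0fa1fc220811ed,
  nat_lit 0x4c61c1402a05862417030064618c58350806202204232a11cc804c31e0e41e83e]
theorem W0_c : blocks (rows 9 4 13 22 511 8191 4194303 11 2047 44 A 540 70 cols 32) 32 JW0 0 = true := by decide +kernel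
theorem W0 : On (Row.{u} rels LW par A 540 70 cols) 0 96 :=
  rows_of_blocks hpar (by decide) hcols W0_c (by decide +kernel)
theorem idx : Idx.{u} rels [[0], [2], [4], [6]] [[0], [2], [4]] 70 :=
  idx_of_cert hpar hR (K := K) (by decide +kernel) (T := 346) (T' := 384) (by decide) D0
    (subs := [1,3,5]) (by decide +kernel) (T1 := 348) (by decide) (N := 540) S0
    (by decide) (n' := 96) (by decide) W0 (by decide +kernel) (by decide +kernel)
end T0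
namespace T1
noncomputable def A_0 : List (ℕ) := [nat_lit 0x394261721307a0984a04c404381841c0840e03e86040830196180ba0781583c4142e168170a41008688846c44158220d1110648843a8421ea1d0830e86a8643c4340d81a0fb0f04a87c22c3e1b41f072090588484742c0b8160d91183586c1542a0d2150890681a840284200c21400d0402c8200a4160740a021050098280e4080380400b0380d0181240c028090010104e0203903a1860c07b0705e02c410422221e10c0a074864330181a81b0f30887d08c24c101640e11c0a86e8381cc0a1521106d0204681c2041814a09065018208141740405a00053048120000ec0c0660104a0180d8000440201200]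
noncomputable def A : List (List (ℕ)) := [A_0]
noncomputable def K_0 : List (ℕ) := [nat_lit 0x89c72371d8b45e35218946233208f452210c914561d0d8fc461f0b84c1e070a82c121106814060000]
noncomputable def K : List (List (ℕ)) := [K_0]
noncomputable def R_0 : List (Rule) := [Rule.mk (nat_lit 1) (nat_lit 24) (Steps.bwd (nat_lit 1) (Steps.bwd (nat_lit 1) Steps.nil)) (nat_lit 0) (nat_lit 0),
  Rule.mk (nat_lit 4) (nat_lit 33) (Steps.bwd (nat_lit 2) (Steps.bwd (nat_lit 3) (Steps.bwd (nat_lit 1) Steps.nil))) (nat_lit 5) (nat_lit 3),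
  Rule.mk (nat_lit 1) (nat_lit 33) (Steps.bwd (nat_lit 3) (Steps.fwd (nat_lit 512) (Steps.bwd (nat_lit 4) Steps.nil))) (nat_lit 4) (nat_lit 1),
  Rule.mk (nat_lit 2) (nat_lit 33) (Steps.bwd (nat_lit 3) (Steps.bwd (nat_lit 1) (Steps.fwd (nat_lit 1536) Steps.nil))) (nat_lit 5) (nat_lit 0),
  Rule.mk (nat_lit 3) (nat_lit 24) (Steps.bwd (nat_lit 3) (Steps.bwd (nat_lit 3) Steps.nil)) (nat_lit 2) (nat_lit 0),
  Rule.mk (nat_lit 4) (nat_lit 24) (Steps.bwd (nat_lit 4) (Steps.fwd (nat_lit 1536) Steps.nil)) (nat_lit 3) (nat_lit 0),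
  Rule.mk (nat_lit 1) (nat_lit 33) (Steps.bwd (nat_lit 4) (Steps.fwd (nat_lit 512) (Steps.bwd (nat_lit 3) Steps.nil))) (nat_lit 5) (nat_lit 2),
  Rule.mk (nat_lit 3) (nat_lit 24) (Steps.bwd (nat_lit 3) (Steps.fwd (nat_lit 2048) Steps.nil)) (nat_lit 2) (nat_lit 0),
  Rule.mk (nat_lit 1) (nat_lit 33) (Steps.bwd (nat_lit 3) (Steps.bwd (nat_lit 2) (Steps.bwd (nat_lit 4) Steps.nil))) (nat_lit 4) (nat_lit 1),
  Rule.mk (nat_lit 1) (nat_lit 33) (Steps.bwd (nat_lit 5) (Steps.fwd (nat_lit 512) (Steps.fwd (nat_lit 2560) Steps.nil))) (nat_lit 10) (nat_lit 2),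
  Rule.mk (nat_lit 5) (nat_lit 33) (Steps.bwd (nat_lit 1) (Steps.bwd (nat_lit 5) (Steps.fwd (nat_lit 512) Steps.nil))) (nat_lit 10) (nat_lit 1),
  Rule.mk (nat_lit 1) (nat_lit 33) (Steps.bwd (nat_lit 5) (Steps.bwd (nat_lit 2) (Steps.fwd (nat_lit 2560) Steps.nil))) (nat_lit 10) (nat_lit 2),
  Rule.mk (nat_lit 5) (nat_lit 33) (Steps.bwd (nat_lit 1) (Steps.bwd (nat_lit 5) (Steps.bwd (nat_lit 2) Steps.nil))) (nat_lit 10) (nat_lit 1),
  Rule.mk (nat_lit 3) (nat_lit 51) (Steps.bwd (nat_lit 5) (Steps.bwd (nat_lit 3) (Steps.bwd (nat_lit 5) (Steps.fwd (nat_lit 2048) (Steps.fwd (nat_lit 2560) Steps.nil))))) (nat_lit 14) (nat_lit 1),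
  Rule.mk (nat_lit 5) (nat_lit 33) (Steps.bwd (nat_lit 2) (Steps.fwd (nat_lit 2560) (Steps.bwd (nat_lit 1) Steps.nil))) (nat_lit 10) (nat_lit 3),
  Rule.mk (nat_lit 2) (nat_lit 24) (Steps.bwd (nat_lit 2) (Steps.fwd (nat_lit 512) Steps.nil)) (nat_lit 1) (nat_lit 0),
  Rule.mk (nat_lit 3) (nat_lit 33) (Steps.bwd (nat_lit 2) (Steps.bwd (nat_lit 4) (Steps.bwd (nat_lit 1) Steps.nil))) (nat_lit 4) (nat_lit 2),
  Rule.mk (nat_lit 5) (nat_lit 33) (Steps.bwd (nat_lit 2) (Steps.bwd (nat_lit 5) (Steps.bwd (nat_lit 1) Steps.nil))) (nat_lit 10) (nat_lit 3),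
  Rule.mk (nat_lit 1) (nat_lit 33) (Steps.bwd (nat_lit 4) (Steps.bwd (nat_lit 2) (Steps.bwd (nat_lit 3) Steps.nil))) (nat_lit 5) (nat_lit 2),
  Rule.mk (nat_lit 5) (nat_lit 51) (Steps.bwd (nat_lit 4) (Steps.bwd (nat_lit 5) (Steps.bwd (nat_lit 4) (Steps.fwd (nat_lit 2560) (Steps.bwd (nat_lit 4) Steps.nil))))) (nat_lit 15) (nat_lit 1),
  Rule.mk (nat_lit 3) (nat_lit 33) (Steps.bwd (nat_lit 1) (Steps.bwd (nat_lit 4) (Steps.fwd (nat_lit 512) Steps.nil))) (nat_lit 5) (nat_lit 1),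
  Rule.mk (nat_lit 5) (nat_lit 33) (Steps.bwd (nat_lit 1) (Steps.fwd (nat_lit 2560) (Steps.fwd (nat_lit 512) Steps.nil))) (nat_lit 10) (nat_lit 1),
  Rule.mk (nat_lit 2) (nat_lit 33) (Steps.bwd (nat_lit 4) (Steps.bwd (nat_lit 1) (Steps.bwd (nat_lit 3) Steps.nil))) (nat_lit 4) (nat_lit 3),
  Rule.mk (nat_lit 1) (nat_lit 33) (Steps.bwd (nat_lit 4) (Steps.fwd (nat_lit 512) (Steps.fwd (nat_lit 2048) Steps.nil))) (nat_lit 5) (nat_lit 2),
  Rule.mk (nat_lit 4) (nat_lit 33) (Steps.bwd (nat_lit 1) (Steps.bwd (nat_lit 3) (Steps.fwd (nat_lit 512) Steps.nil))) (nat_lit 4) (nat_lit 0),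
  Rule.mk (nat_lit 3) (nat_lit 33) (Steps.bwd (nat_lit 1) (Steps.fwd (nat_lit 1536) (Steps.bwd (nat_lit 2) Steps.nil))) (nat_lit 5) (nat_lit 1),
  Rule.mk (nat_lit 4) (nat_lit 24) (Steps.bwd (nat_lit 4) (Steps.bwd (nat_lit 4) Steps.nil)) (nat_lit 3) (nat_lit 0),
  Rule.mk (nat_lit 2) (nat_lit 33) (Steps.bwd (nat_lit 3) (Steps.fwd (nat_lit 1024) (Steps.bwd (nat_lit 4) Steps.nil))) (nat_lit 5) (nat_lit 0),
  Rule.mk (nat_lit 2) (nat_lit 33) (Steps.bwd (nat_lit 3) (Steps.bwd (nat_lit 1) (Steps.bwd (nat_lit 4) Steps.nil))) (nat_lit 5) (nat_lit 0),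
  Rule.mk (nat_lit 5) (nat_lit 51) (Steps.bwd (nat_lit 3) (Steps.bwd (nat_lit 5) (Steps.bwd (nat_lit 3) (Steps.fwd (nat_lit 2560) (Steps.bwd (nat_lit 3) Steps.nil))))) (nat_lit 14) (nat_lit 0),
  Rule.mk (nat_lit 1) (nat_lit 33) (Steps.bwd (nat_lit 4) (Steps.bwd (nat_lit 2) (Steps.fwd (nat_lit 2048) Steps.nil))) (nat_lit 5) (nat_lit 2),
  Rule.mk (nat_lit 5) (nat_lit 51) (Steps.bwd (nat_lit 4) (Steps.fwd (nat_lit 2560) (Steps.fwd (nat_lit 1536) (Steps.bwd (nat_lit 5) (Steps.bwd (nat_lit 4) Steps.nil))))) (nat_lit 15) (nat_lit 1)]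
noncomputable def R : List (List (Rule)) := [R_0]
def LW : List Word := [[], [0], [1], [2], [3], [4]]
def par : Par := ⟨9, 3, 12, 21, 511, 4095, 2097151⟩
theorem hpar : par.ok := by decide
theorem hR0_0 : lall (R) (fun l => lall l (ruleOK rels LW par)) = true := by decide +kernel
theorem hR0 : lall (R) (fun l => lall l (ruleOK rels LW par)) = true := hR0_0
theorem hR : RulesOK rels LW par R := rulesOK_of rfl hR0
def cols : List (ℕ × ℕ) := [(512, 2), (1536, 4), (2560, 5)]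
theorem hcols : lall cols (colOK rels LW par) = true := by decide +kernel
noncomputable def JS0 : List ℕ := [nat_lit 0x2320c8d850a00408284c122718022714060413a42c148991020950148c04a200416240c0226121e0a1308c2000084638985e2d1208ce040984868004608901223281626121a001182241608cc170984858004608901223284c061208021388c9028888008a044389442308842288c4a21100023100600108802110841,
  nat_lit 0xa262a0a46d00e4523560104c1a2e40198c37078cdf018e464b83c62300c924f230c5e0288060e8d85e4008742f70782e1402401410c5ca04c5ad8bc5ad8100a2d346409163437180ad9028a811605454c00426295c040114ac35148a15]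
theorem S0_c : blocks (facts 9 3 12 21 511 4095 2097151 9 511 6 63 A R 32) 32 JS0 290 = true := by decide +kernel
theorem S0 : On (Step.{u} rels LW par A) 290 354 :=
  steps_of_blocks hpar hR S0_c (by decide +kernel)
theorem D0_c : allB (defOK 9 12 21 511 2097151 291 A K) 1 2 = true := by decide +kernel
theorem D0 : On (fun r => defOK par.W par.WL par.E par.mW par.mE 291 A K r = true) 256 384 :=
  On.of_allB D0_c
noncomputable def JW0 : List ℕ := [nat_lit 0x14c9f158300c8360c48f0e02b22c231204a2643d1188c0f03e0ec1320c1a28458134412544210093240200901d0a88909c520b49d16835170ad0bc640488105049064502a4962906007c620842805ca02184f29c45178af210aa2cc551a85b1c06e2b0b62fc66268682a0761b4612e87a2d4a22c0a62e4722b8751e4b21f47e19cbc308b4300c4]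
theorem W0_c : blocks (rows 9 3 12 21 511 4095 2097151 10 1023 30 A 354 36 cols 42) 42 JW0 0 = true := by decide +kernel
theorem W0 : On (Row.{u} rels LW par A 354 36 cols) 0 42 :=
  rows_of_blocks hpar (by decide) hcols W0_c (by decide +kernel)
theorem idx : Idx.{u} rels [[0], [2], [4]] [] 36 :=
  idx_of_cert hpar hR (K := K) (by decide +kernel) (T := 291) (T' := 384) (by decide) D0
    (subs := []) (by decide +kernel) (T1 := 290) (by decide) (N := 354) S0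
    (by decide) (n' := 42) (by decide) W0 (by decide +kernel) (by decide +kernel)
end T1
theorem bound : Bound.{u} rels [[0],[2],[4],[6]] 2520 :=
  .of_idx T0.idx (.of_idx T1.idx (.nil _) (N := 36) (by decide)) (by decide)
end
end CA.A7TC
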